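import Groth.Agent.EGA4Lib.SmoothRegular
import Groth.Agent.VarDim.Curve
import Mathlib.AlgebraicGeometry.Morphisms.Smooth
import Mathlib.RingTheory.RegularLocalRing.Defs

/-! # Local rings of smooth curves over a field -/

universe u

open CategoryTheory AlgebraicGeometry

set_option linter.style.haveILetI false

namespace Groth.Agent.CurveDVR

variable {k : Type u} [Field k] {X : Scheme.{u}} (f : X ⟶ Spec (CommRingCat.of k))

/-- A smooth scheme over a field has regular local rings. -/
theorem isRegularLocalRing_stalk [Smooth f] (x : X) : IsRegularLocalRing (X.presheaf.stalk x) := by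
  obtain ⟨_, ⟨U, hU, rfl⟩, hxU, -⟩ :=
    X.isBasis_affineOpens.exists_subset_of_mem_open (Set.mem_univ x) isOpen_univ
  have hU' : IsAffineOpen U := hU
  have hφ : RingHom.Smooth (f.appLE ⊤ U le_top).hom :=
    HasRingHomProperty.appLE (P := @Smooth) f inferInstance ⟨⊤, isAffineOpen_top _⟩ ⟨U, hU'⟩ le_top
  let g : k →+* Γ(X, U) := (f.appLE ⊤ U le_top).hom.comp (Scheme.ΓSpecIso (CommRingCat.of k)).inv.hom
  have hg : RingHom.Smooth g :=
    (RingHom.Smooth.propertyIsLocal.respectsIso.2 (f.appLE ⊤ U le_top).hom
      (Scheme.ΓSpecIso (CommRingCat.of k)).commRingCatIsoToRingEquiv.symm hφ)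
  letI : Algebra k Γ(X, U) := g.toAlgebra
  haveI : Algebra.Smooth k Γ(X, U) := hg
  let q := hU'.primeIdealOf ⟨x, hxU⟩
  have hk : PrimeSpectrum.comap (algebraMap k Γ(X, U)) q ∈ EGA4.regLocus k := by
    show IsRegularLocalRing (Localization.AtPrime _)
    haveI : (PrimeSpectrum.comap (algebraMap k Γ(X, U)) q).asIdeal.IsPrime := inferInstance
    have hM : (PrimeSpectrum.comap (algebraMap k Γ(X, U)) q).asIdeal = ⊥ :=
      (Ideal.eq_bot_or_top _).resolve_right (PrimeSpectrum.comap (algebraMap k Γ(X, U)) q).isPrime.ne_top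
    have e := IsLocalization.atUnits k (S := Localization.AtPrime
      (PrimeSpectrum.comap (algebraMap k Γ(X, U)) q).asIdeal)
      (PrimeSpectrum.comap (algebraMap k Γ(X, U)) q).asIdeal.primeCompl (fun a ha => by
        refine isUnit_iff_ne_zero.mpr fun h => ha ?_
        rw [h]; exact zero_mem _)
    haveI : IsRegularLocalRing k := inferInstance
    exact IsRegularLocalRing.of_ringEquiv e.toRingEquiv
  have hq : IsRegularLocalRing (Localization.AtPrime q.asIdeal) := EGA4Lib.mem_regLocus_of_smooth q hk
  letI := TopCat.Presheaf.algebra_section_stalk X.presheaf ⟨x, hxU⟩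
  haveI := hU'.isLocalization_stalk ⟨x, hxU⟩
  exact IsRegularLocalRing.of_ringEquiv
    (IsLocalization.algEquiv q.asIdeal.primeCompl (Localization.AtPrime q.asIdeal)
      (X.presheaf.stalk x)).toRingEquiv

/-- A regular local domain of dimension one is a DVR. -/
theorem isDiscreteValuationRing_of_regular (R : Type*) [CommRing R] [IsDomain R]
    [IsRegularLocalRing R] (h : ringKrullDim R = 1) : IsDiscreteValuationRing R := by
  have hnf : ¬ IsField R := fun hf => by
    rw [ringKrullDim_eq_zero_of_isField hf] at h
    exact zero_ne_one h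
  refine ((IsDiscreteValuationRing.TFAE R hnf).out 0 4).mpr ?_
  have h1 : (IsLocalRing.maximalIdeal R).spanFinrank = 1 := by
    have := (isRegularLocalRing_iff R).mp ‹_›
    rw [h] at this
    exact_mod_cast this
  exact ((Submodule.spanFinrank_eq_one_iff (IsLocalRing.maximalIdeal R)).mp h1).1

theorem coheight_eq_one [IsIntegral X] [LocallyOfFiniteType f] (hdim : topologicalKrullDim X = 1) {x : X}
    (hx : IsClosed ({x} : Set X)) : Order.coheight x = 1 := by
  letI : X.Over (Spec (CommRingCat.of k)) := ⟨f⟩
  haveI : LocallyOfFiniteType (X ↘ Spec (CommRingCat.of k)) := ‹LocallyOfFiniteType f›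
  refine VarDim.coheight_eq_one_of_ne_genericPoint k hdim fun h => ?_
  subst h
  have hd := VarDim.dimPt_genericPoint_of_curve k hdim
  have hmin : IsMin (genericPoint X) := fun y (hy : genericPoint X ⤳ y) => by
    have : y ∈ ({genericPoint X} : Set X) := hy.mem_closed hx rfl
    rw [Set.mem_singleton_iff.mp this]
  have := VarDim.height_eq_dimPt k (genericPoint X)
  rw [Order.height_eq_zero.mpr hmin, hd] at this
  exact zero_ne_one this

/-- The local ring of a smooth integral curve at a closed point is a DVR. -/
theorem isDiscreteValuationRing_stalk [IsIntegral X] [Smooth f] (hdim : topologicalKrullDim X = 1) {x : X}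
    (hx : IsClosed ({x} : Set X)) : IsDiscreteValuationRing (X.presheaf.stalk x) := by
  haveI := isRegularLocalRing_stalk f x
  refine isDiscreteValuationRing_of_regular _ ?_
  rw [ringKrullDim_stalk_eq_coheight, coheight_eq_one f hdim hx]
  rfl

end Groth.Agent.CurveDVR
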