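import Mathlib.RingTheory.OrderOfVanishing.Noetherian
import Mathlib.LinearAlgebra.FiniteDimensional.Lemmas
import Mathlib.Data.Set.Card
import Mathlib.Tactic.Ring
import Mathlib.Tactic.LinearCombination

/-! # The number of valuations taken on a finite-dimensional subspace of a DVR -/

namespace Groth.Agent.CurveDVR

open IsLocalRing

variable {k R : Type*} [Field k] [CommRing R] [IsDomain R] [IsDiscreteValuationRing R]

theorem ncard_values (ι : k →+* R) (hres : ∀ z : R, ∃ c : k, z - ι c ∈ maximalIdeal R) :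
    ∀ (d : ℕ) (V : Type*) [AddCommGroup V] [Module k V] [FiniteDimensional k V] (φ : V →+ R),
      Function.Injective φ → (∀ (c : k) v, φ (c • v) = ι c * φ v) → Module.finrank k V = d →
      ((fun v => Ring.ord R (φ v)) '' {v : V | v ≠ 0}).Finite ∧
      ((fun v => Ring.ord R (φ v)) '' {v : V | v ≠ 0}).ncard = d := by
  intro d
  induction d with
  | zero =>
    intro V _ _ _ φ _ _ hd
    have : Subsingleton V := Module.finrank_zero_iff.mp hd
    have h : {v : V | v ≠ 0} = ∅ := by ext v; simp [Subsingleton.elim v 0]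
    simp [h]
  | succ d ih =>
    intro V _ _ _ φ hinj hsmul hd
    classical
    have : Nontrivial V := Module.nontrivial_of_finrank_eq_succ hd
    have hne : {v : V | v ≠ 0}.Nonempty := exists_ne 0
    set v₀ := Function.argminOn (fun v => Ring.ord R (φ v)) {v : V | v ≠ 0} hne with hv₀def
    have hv₀ : v₀ ≠ 0 := Function.argminOn_mem (fun v => Ring.ord R (φ v)) {v : V | v ≠ 0} hne
    have hmin : ∀ v : V, v ≠ 0 → Ring.ord R (φ v₀) ≤ Ring.ord R (φ v) := fun v hv => by
      have := Function.not_lt_argminOn (fun v => Ring.ord R (φ v)) {v : V | v ≠ 0} (a := v) hv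
      exact not_lt.mp this
    have hφ0 : φ v₀ ≠ 0 := fun h => hv₀ (hinj (by rw [h, map_zero]))
    have hdvd : ∀ v : V, φ v₀ ∣ φ v := by
      intro v
      by_cases hv : v = 0
      · simp [hv]
      · rw [← IsDiscreteValuationRing.addVal_le_iff_dvd, ← Ring.ord_eq_addVal, ← Ring.ord_eq_addVal]
        exact hmin v hv
    let J : Ideal R := Ideal.span {φ v₀} * maximalIdeal R
    let W : Submodule k V :=
      { carrier := {v | φ v ∈ J}
        add_mem' := fun {a b} ha hb => by
          show φ (a + b) ∈ J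
          rw [map_add]; exact add_mem ha hb
        zero_mem' := by show φ 0 ∈ J; rw [map_zero]; exact zero_mem _
        smul_mem' := fun c v hv => by
          show φ (c • v) ∈ J
          rw [hsmul]; exact J.mul_mem_left _ hv }
    have hmemJ : ∀ z : R, z * φ v₀ ∈ J ↔ z ∈ maximalIdeal R := by
      intro z
      refine ⟨fun h => ?_, fun h => ?_⟩
      · obtain ⟨w, hw, hwe⟩ := Ideal.mem_span_singleton_mul.mp h
        have : z = w := mul_right_cancel₀ hφ0 (by rw [← hwe, mul_comm])
        rwa [this]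
      · exact Ideal.mem_span_singleton_mul.mpr ⟨z, h, mul_comm _ _⟩
    have hdecomp : ∀ v : V, ∃ c : k, v - c • v₀ ∈ W ∧ (c ≠ 0 → Ring.ord R (φ v) = Ring.ord R (φ v₀)) := by
      intro v
      obtain ⟨z, hz⟩ := hdvd v
      obtain ⟨c, hc⟩ := hres z
      refine ⟨c, ?_, fun hc0 => ?_⟩
      · show φ (v - c • v₀) ∈ J
        rw [map_sub, hsmul, hz, show φ v₀ * z - ι c * φ v₀ = (z - ι c) * φ v₀ by ring, hmemJ]
        exact hc
      · have hu : IsUnit z := by
          by_contra hzu
          have hzm : z ∈ maximalIdeal R := hzu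
          have : ι c ∈ maximalIdeal R := by simpa using sub_mem hzm hc
          exact (mem_maximalIdeal _).mp this ((isUnit_iff_ne_zero.mpr hc0).map ι)
        rw [hz]
        exact Ring.ord_mul_of_isUnit_right hu _
    have hWgt : ∀ v ∈ W, v ≠ 0 → Ring.ord R (φ v₀) ≠ Ring.ord R (φ v) := by
      intro v hv hv0 heq
      obtain ⟨z, hz⟩ := hdvd v
      have hzm : z ∈ maximalIdeal R := (hmemJ z).mp (by rw [mul_comm, ← hz]; exact hv)
      obtain ⟨u, hu⟩ := (Ring.ord_eq_iff_associated _ _).mp heq
      have : (u : R) = z := mul_left_cancel₀ hφ0 (hu.trans hz)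
      exact (mem_maximalIdeal _).mp hzm (this ▸ u.isUnit)
    have hinf : W ⊓ Submodule.span k {v₀} = ⊥ := by
      rw [eq_bot_iff]
      rintro x ⟨hxW, hxs⟩
      obtain ⟨c, rfl⟩ := Submodule.mem_span_singleton.mp hxs
      by_contra hne'
      have hc0 : c ≠ 0 := fun h => hne' (by simp [h])
      refine hWgt _ hxW (smul_ne_zero hc0 hv₀) ?_
      rw [hsmul, Ring.ord_mul_of_isUnit_left ((isUnit_iff_ne_zero.mpr hc0).map ι)]
    have hsup : W ⊔ Submodule.span k {v₀} = ⊤ := by
      rw [eq_top_iff]
      intro v _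
      obtain ⟨c, hc, -⟩ := hdecomp v
      rw [← sub_add_cancel v (c • v₀)]
      exact Submodule.add_mem_sup hc (Submodule.smul_mem _ _ (Submodule.mem_span_singleton_self _))
    have hdW : Module.finrank k W = d := by
      have := Submodule.finrank_sup_add_finrank_inf_eq W (Submodule.span k {v₀})
      rw [hinf, hsup, finrank_top, finrank_bot, finrank_span_singleton hv₀, hd] at this
      omega
    obtain ⟨hfin, hcard⟩ := ih W (φ.comp W.subtype.toAddMonoidHom) (hinj.comp Subtype.val_injective)
      (fun c v => hsmul c v) hdW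
    have hset : (fun v => Ring.ord R (φ v)) '' {v : V | v ≠ 0} = insert (Ring.ord R (φ v₀))
        ((fun v : W => Ring.ord R ((φ.comp W.subtype.toAddMonoidHom) v)) '' {v : W | v ≠ 0}) := by
      ext t
      constructor
      · rintro ⟨v, hv, rfl⟩
        obtain ⟨c, hc, hce⟩ := hdecomp v
        by_cases hc0 : c = 0
        · rw [hc0, zero_smul, sub_zero] at hc
          exact Or.inr ⟨⟨v, hc⟩, fun h => hv (congrArg Subtype.val h), rfl⟩
        · exact Or.inl (hce hc0)
      · rintro (rfl | ⟨w, hw, rfl⟩)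
        · exact ⟨v₀, hv₀, rfl⟩
        · exact ⟨w.1, fun h => hw (Subtype.ext h), rfl⟩
    rw [hset]
    refine ⟨hfin.insert _, ?_⟩
    rw [Set.ncard_insert_of_notMem ?_ hfin, hcard]
    rintro ⟨w, hw, he⟩
    exact hWgt w.1 w.2 (fun h => hw (Subtype.ext h)) he.symm

end Groth.Agent.CurveDVR
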